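import Cfsg.Agent.PRationalExtension.Normalized
import Cfsg.Agent.CharactersDeep.ExtensionCriteria
import Cfsg.Agent.BlocksLocal.LocalConjugacy

/-!
# Existence of extensions of `p'`-degree characters of the principal block

When `G = N C(Q)` the central extension attached to the character has a principal block extension,
whose scalar on the kernel has `p`-power order; together with the extension to a Sylow preimage this
gives an extension to `G`.
-/

set_option autoImplicit false
set_option linter.unusedSectionVars false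
set_option linter.style.haveILetI false

namespace CfsgLib.PRationalExtension

open Cfsg CfsgLib.Blocks CfsgLib.Characters CfsgLib.CharactersDeep

universe u v

/-- The principal block is carried to the principal block by an isomorphism. -/
theorem principal_comp {A : Type u} [Group A] {B : Type v} [Group B] {M : Ideal AlgInt}
    (e : A ≃* B) {θ : IrrCharacter B} (h : θ ∈ Cfsg.principalBlock M B) :
    BlockPairs.irrComp e θ ∈ Cfsg.principalBlock M A := fun a => by
  have h' := h (e a)
  rw [← BlocksLocal.centralChar_comp_mulEquiv e (fun _ : B => (1 : ℂ)),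
    ← BlocksLocal.centralChar_comp_mulEquiv e (θ : B → ℂ)] at h'
  exact h'

variable {G : Type u} [Group G] [Finite G] {N : Subgroup G} [hN : N.Normal] {p a o : ℕ}
  [hp : Fact p.Prime] {θ : IrrCharacter N}

/-- Extension to the preimage of a Sylow subgroup of the quotient. -/
theorem exists_sylow_extension (ho : ¬ p ∣ o) (hdet : BlocksCharsC.DetExp o (θ : N → ℂ))
    (hinv : ∀ (g : G) (n : N),
      (θ : N → ℂ) ⟨g * n * g⁻¹, hN.conj_mem n n.2 g⟩ = (θ : N → ℂ) n)
    (hd : ¬ p ∣ Cfsg.charDegree (θ : N → ℂ)) :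
    ∃ (P : Subgroup G) (hNP : N ≤ P) (η : P → ℂ), ¬ p ∣ P.index ∧
      Cfsg.IsCharacter P η ∧ ∀ n : N, η ⟨n, hNP n.2⟩ = (θ : N → ℂ) n := by
  classical
  obtain ⟨S⟩ : Nonempty (Sylow p G) := inferInstance
  let P : Subgroup G := N ⊔ S
  have hNP : N ≤ P := le_sup_left
  haveI := Fintype.ofFinite P
  haveI := Fintype.ofFinite N
  haveI := Fintype.ofFinite (N.subgroupOf P)
  let eN : N.subgroupOf P ≃* N := Subgroup.subgroupOfEquivOfLe hNP
  have hq : IsPGroup p (P ⧸ N.subgroupOf P) := by
    refine S.2.of_surjective ((QuotientGroup.mk' (N.subgroupOf P)).comp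
      (Subgroup.inclusion (le_sup_right : (S : Subgroup G) ≤ P))) fun q => ?_
    obtain ⟨⟨x, hx⟩, rfl⟩ := QuotientGroup.mk_surjective q
    obtain ⟨n, hn, s, hs, rfl⟩ := Subgroup.mem_sup_of_normal_left.1 hx
    refine ⟨⟨s, hs⟩, QuotientGroup.eq.2 ?_⟩
    rw [Subgroup.mem_subgroupOf]
    simp only [Subgroup.coe_mul, Subgroup.coe_inv, Subgroup.coe_inclusion]
    rw [← mul_assoc]
    simpa using hN.conj_mem n hn s⁻¹
  obtain ⟨η, hη, -, hres, -⟩ := BlocksCharsC.exists_canonical (p := p) (o := o)
    ((Nat.coprime_comm).1 (hp.out.coprime_iff_not_dvd.2 ho)) (N.subgroupOf P) hq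
    (BlockPairs.irrComp eN θ).2 (hdet.comp eN.toMonoidHom)
    (fun g => funext fun n => hinv (g : G) (eN n))
    (by simpa [Cfsg.charDegree, BlockPairs.irrComp_apply] using hd)
  exact ⟨P, hNP, η, fun h => S.not_dvd_index (h.trans (Subgroup.index_dvd_of_le le_sup_right)),
    isCharacter_of_isIrr hη, fun n => hres (eN.symm n)⟩

section Cov

variable {M : Ideal AlgInt} [M.IsPrime] (hM : Cfsg.IsPModular p M) {d : ℕ}
  (ρ : Representation ℂ N (Fin d → ℂ)) [ρ.IsIrreducible] (Q : Sylow p N)
  (hcov : N ⊔ Subgroup.centralizer (((Q : Subgroup N).map N.subtype : Subgroup G) : Set G) = ⊤)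
include hM hcov

/-- Some power of `p` extends the scalar homomorphism. -/
theorem exponent_p_power (hρ : ρ.character = (θ : N → ℂ)) (hθ : θ ∈ Cfsg.principalBlock M N)
    (hinv : ∀ (g : G) (n : N), ρ.character (MulAut.conjNormal g n) = ρ.character n) :
    ∃ k : ℕ, ((p ^ k : ℕ) : ℤ) ∈
      TransferExtend.extExponents (Extension.base N ρ) (Extension.lam N ρ) := by
  classical
  haveI := Extension.finite_gam N ρ
  haveI := Fintype.ofFinite (Extension.Gam N ρ)
  have hsurj := Extension.proj_surjective N ρ hinv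
  let emb := Extension.emb N ρ
  let N' : Subgroup (Extension.Gam N ρ) := emb.range
  have hinj : Function.Injective emb := fun x y h =>
    Subtype.ext (congrArg (Extension.proj N ρ) h)
  let e : N ≃* N' := MonoidHom.ofInjective hinj
  haveI : N'.Normal := ⟨by
    rintro _ ⟨n, rfl⟩ γ
    refine ⟨MulAut.conjNormal (Extension.proj N ρ γ) n, Extension.ext_gam N ρ ?_ ?_⟩
    · rw [map_mul, map_mul, map_inv, Extension.proj_emb, Extension.proj_emb,
        MulAut.conjNormal_apply]
    · rw [map_mul, map_mul, Extension.op_emb, Extension.op_emb, Extension.op_intertwines, mul_assoc,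
        ← map_mul, mul_inv_cancel, map_one, mul_one]⟩
  haveI := Fintype.ofFinite N'
  let θ' : IrrCharacter N' := BlockPairs.irrComp e.symm θ
  have hθ' : θ' ∈ Cfsg.principalBlock M N' := principal_comp e.symm hθ
  let Q' : Sylow p N' := Q.mapSurjective (f := e.toMonoidHom) e.surjective
  have hQ' : ∀ x ∈ ((Q' : Subgroup N').map N'.subtype), ∃ q : N, q ∈ (Q : Subgroup N) ∧ emb q = x := by
    rintro _ ⟨y, hy, rfl⟩
    obtain ⟨q, hq, rfl⟩ := hy
    exact ⟨q, hq, rfl⟩
  have hcov' : N' ⊔ Subgroup.centralizer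
      (((Q' : Subgroup N').map N'.subtype : Subgroup (Extension.Gam N ρ)) : Set _) = ⊤ := by
    refine eq_top_iff.2 fun γ _ => ?_
    obtain ⟨n, hn, y, hy, hny⟩ := Subgroup.mem_sup_of_normal_left.1
      (hcov ▸ Subgroup.mem_top (Extension.proj N ρ γ))
    obtain ⟨δ, rfl⟩ := hsurj y
    have hδ : δ ∈ Subgroup.centralizer
        (((Q' : Subgroup N').map N'.subtype : Subgroup (Extension.Gam N ρ)) : Set _) := by
      refine Subgroup.mem_centralizer_iff.2 fun x hx => ?_
      obtain ⟨q, hq, rfl⟩ := hQ' x hx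
      have hc := Subgroup.mem_centralizer_iff.1 hy (q : G) ⟨q, hq, rfl⟩
      refine Extension.ext_gam N ρ ?_ ?_
      · rw [map_mul, map_mul, Extension.proj_emb]
        exact hc
      · rw [map_mul, map_mul, Extension.op_emb, Extension.op_intertwines,
          show MulAut.conjNormal (Extension.proj N ρ δ) q = q from Subtype.ext (by
            rw [MulAut.conjNormal_apply, ← hc, mul_inv_cancel_right])]
    have hγ : γ = emb ⟨n, hn⟩ * (δ * (δ⁻¹ * (emb ⟨n, hn⟩)⁻¹ * γ)) := by group
    rw [hγ]
    refine Subgroup.mul_mem_sup ⟨_, rfl⟩ (mul_mem hδ ?_)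
    refine Subgroup.center_le_centralizer _ (Extension.ker_le_center N ρ ?_)
    rw [MonoidHom.mem_ker, map_mul, map_mul, map_inv, map_inv, Extension.proj_emb, ← hny]
    group
  let R := Extension.op N ρ
  let ρ' : Representation ℂ N' (Fin d → ℂ) := R.comp N'.subtype
  have hρ' : ρ'.character = (θ' : N' → ℂ) := funext fun x => by
    obtain ⟨n, rfl⟩ := e.surjective x
    show LinearMap.trace ℂ _ (R (emb n)) = (θ : N → ℂ) (e.symm (e n))
    rw [Extension.op_emb, MulEquiv.symm_apply_apply, ← hρ]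
    rfl
  haveI : ρ'.IsIrreducible := by
    rw [isIrreducible_iff_classInner, hρ', classInner_isIrr_self θ'.2]
  let ψ : IrrCharacter (Extension.Gam N ρ) := ⟨R.character, d, R,
    BlocksCharsC.isIrreducible_of_restrict N' (ρ := ρ') R fun _ => rfl, rfl⟩
  have hψ : ExtensionBlocks.Extends N' θ' ψ := fun x => congrFun hρ' x
  obtain ⟨χ, hχ, hn⟩ := ExtensionBlocks.exists_normalized hM hθ' Q' hcov' hψ
  obtain ⟨f, τ, hf, hτ, hτc⟩ := BlocksCharsC.exists_hom_of_extensions N' (ρ := ρ') (σ := R)
    (fun _ => rfl) (isCharacter_of_isIrr χ.2) fun x => by rw [hρ']; exact hχ x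
  let J : Subgroup (Extension.Gam N ρ) := N' ⊔ (Extension.proj N ρ).ker
  haveI := Fintype.ofFinite J
  obtain ⟨ξ, hξ, hξv⟩ := ExtensionBlocks.exists_restrict_mem_principalBlock hn J.subtype
    J.subtype_injective (by rw [J.range_subtype]; exact le_sup_left)
  set c := Nat.card (Extension.Gam N ρ)
  refine ⟨c.factorization p, f⁻¹ ^ (p ^ c.factorization p), fun γ => ?_⟩
  set n : N := ⟨Extension.proj N ρ γ, γ.2⟩
  set z : Extension.Gam N ρ := (emb n)⁻¹ * γ with hz
  have hzk : z ∈ (Extension.proj N ρ).ker := by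
    rw [MonoidHom.mem_ker, hz, map_mul, map_inv, Extension.proj_emb]
    exact inv_mul_cancel _
  have hfz : f z = f γ := by
    rw [hz, map_mul, map_inv, hf ⟨emb n, n, rfl⟩, inv_one, one_mul]
  have hRz : R z = (Extension.lam N ρ γ : ℂ) • 1 := by
    show Extension.op N ρ z = _
    rw [hz, map_mul, Extension.lam_spec N ρ γ, mul_smul_comm, ← Extension.op_emb N ρ n]
    show _ • (R (emb n)⁻¹ * R (emb n)) = _
    rw [← map_mul, inv_mul_cancel, map_one]
  set w : ℂ := (f γ : ℂ) * (Extension.lam N ρ γ : ℂ) with hw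
  have hτz : τ z = w • 1 := by rw [hτ, hfz, hRz, smul_smul]
  have hd0 : (d : ℂ) ≠ 0 := Nat.cast_ne_zero.2 (Extension.dim_pos N ρ).ne'
  let j : J := ⟨z, Subgroup.mem_sup_right hzk⟩
  have hcent : Subgroup.centralizer ({j} : Set J) = ⊤ := by
    refine eq_top_iff.2 fun x _ => Subgroup.mem_centralizer_singleton_iff.2 (Subtype.ext ?_)
    exact Subgroup.mem_center_iff.1 (Extension.ker_le_center N ρ hzk) x
  have hsame := hξ j
  rw [Cfsg.centralChar, Cfsg.centralChar, hcent, Subgroup.index_top, Nat.cast_one, one_mul, one_mul,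
    hξv, hξv, ← hτc, map_one J.subtype, Representation.char_one,
    Module.finrank_fin_fun] at hsame
  have htr : τ.character (J.subtype j) = w * d := by
    show LinearMap.trace ℂ _ (τ z) = _
    rw [hτz, map_smul, Module.End.one_eq_id, LinearMap.trace_id, Module.finrank_fin_fun, smul_eq_mul]
  rw [htr, mul_div_assoc, div_self hd0, div_one, mul_one] at hsame
  have hwc : w ^ c = 1 := by
    rw [hw, mul_pow, ← Units.val_pow_eq_pow_val, ← map_pow, pow_card_eq_one', map_one, Units.val_one,
      one_mul]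
    obtain ⟨b, hb⟩ := Subgroup.card_subgroup_dvd_card (Extension.base N ρ)
    rw [show c = Nat.card (Extension.base N ρ) * b from hb, ← Units.val_pow_eq_pow_val, pow_mul,
      ← map_pow, pow_card_eq_one', map_one, one_pow, Units.val_one]
  have hint : IsIntegral ℤ w := IsIntegral.of_pow Nat.card_pos (hwc ▸ isIntegral_one)
  have hred : red M (1 : localRing M) = red M ⟨w, memLocalRing_of_isIntegral hint⟩ :=
    red_eq_red_iff.2 hsame
  have hpow := pow_pow_eq_one_of_red (a := c.factorization p)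
    (o := c / p ^ c.factorization p) hM (Nat.not_dvd_ordCompl hp.out Nat.card_pos.ne')
    (z := ⟨w, memLocalRing_of_isIntegral hint⟩) (Subtype.ext (by
      show w ^ _ = 1
      rw [Nat.mul_div_cancel' (Nat.ordProj_dvd _ p), hwc]))
    (by rw [← hred, map_one])
  have hw1 : (f γ * Extension.lam N ρ γ) ^ p ^ c.factorization p = 1 :=
    Units.ext (by simpa [hw] using congrArg Subtype.val hpow)
  rw [mul_pow, mul_eq_one_iff_inv_eq] at hw1
  rw [MonoidHom.pow_apply, MonoidHom.inv_apply, inv_pow, hw1, zpow_natCast]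

/-- When `G = N C(Q)` an extension to `G` exists. -/
theorem exists_extension_cov (ho : ¬ p ∣ o) (hdet : BlocksCharsC.DetExp o (θ : N → ℂ))
    (hinv : ∀ (g : G) (n : N),
      (θ : N → ℂ) ⟨g * n * g⁻¹, hN.conj_mem n n.2 g⟩ = (θ : N → ℂ) n)
    (hd : ¬ p ∣ Cfsg.charDegree (θ : N → ℂ)) (hθ : θ ∈ Cfsg.principalBlock M N)
    (hρ : ρ.character = (θ : N → ℂ)) :
    ∃ χ : IrrCharacter G, ∀ n : N, (χ : G → ℂ) n = (θ : N → ℂ) n := by
  have hinv' : ∀ (g : G) (n : N), ρ.character (MulAut.conjNormal g n) = ρ.character n := fun g n => by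
    rw [hρ]; exact ExtensionCriteria.hinv_rep N hinv g n
  have hsurj := Extension.proj_surjective N ρ hinv'
  haveI := Extension.finite_gam N ρ
  obtain ⟨k, hk⟩ := exponent_p_power hM ρ Q hcov hρ hθ hinv'
  obtain ⟨P, hNP, η, hP, hη, hres⟩ := exists_sylow_extension ho hdet hinv hd
  obtain ⟨R, -, hR⟩ := Extension.exists_rep_exact ρ (Subgroup.inclusion hNP) hη fun n => by
    rw [hρ]; exact hres n
  obtain ⟨ν, hν⟩ := TransferExtend.exists_extend_of_coprime (Extension.base N ρ)
    (Extension.lam N ρ) (Nat.Coprime.pow_right k ((Nat.coprime_comm).1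
      (hp.out.coprime_iff_not_dvd.2 hP))) (Extension.exponent_index N ρ hsurj P hNP R hR) hk
  obtain ⟨S, hS⟩ := Extension.extends_of_hom N ρ hsurj ν hν
  obtain ⟨h1, h2⟩ := ExtensionCriteria.isIrr_of_rep N S hS
  exact ⟨⟨_, h1⟩, fun n => (h2 n).trans (congrFun hρ n)⟩

end Cov

end CfsgLib.PRationalExtension
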