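import Cfsg.Agent.BlocksCharsC.DetExtension
import Cfsg.Agent.PRational.Basic
import Cfsg.Agent.Blocks.LocalRing
import Cfsg.Agent.Characters.RepBasic

/-!
# Galois-fixed characters, determinants and congruences

Throughout, the group order divides `p ^ a * o` with `o` prime to `p`. A character is fixed here when
`χ (g ^ k) = χ g` for all `k` prime to `p ^ a * o` that are `1` modulo `o`.
-/

set_option autoImplicit false
set_option linter.unusedSectionVars false
set_option linter.style.haveILetI false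

namespace CfsgLib.PRationalExtension

open Cfsg CfsgLib.Blocks CfsgLib.Characters

universe u

/-- Invariance under the Galois group over the field of `o`-th roots of unity. -/
def RatFixed (p a o : ℕ) {G : Type u} [Group G] (χ : G → ℂ) : Prop :=
  ∀ k : ℕ, Nat.Coprime k (p ^ a * o) → k ≡ 1 [MOD o] → ∀ g : G, χ (g ^ k) = χ g

variable {p a o : ℕ}

theorem pos_of_not_dvd (ho : ¬ p ∣ o) : 0 < o :=
  Nat.pos_of_ne_zero fun h => ho (h ▸ dvd_zero p)

theorem coprime_of_not_dvd (hp : p.Prime) (ho : ¬ p ∣ o) : Nat.Coprime (p ^ a) o :=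
  Nat.Coprime.pow_left a (hp.coprime_iff_not_dvd.2 ho)

section Roots

variable {M : Ideal AlgInt} [M.IsPrime] (hM : Cfsg.IsPModular p M) (ho : ¬ p ∣ o)
include hM ho

theorem pow_pow_eq_one_of_red {z : localRing M} (hz : z ^ (p ^ a * o) = 1) (hr : red M z = 1) :
    z ^ p ^ a = 1 := by
  set y := z ^ p ^ a with hy
  have hyo : y ^ o = 1 := by rw [hy, ← pow_mul, hz]
  by_contra hne
  have hsum : ∑ i ∈ Finset.range o, y ^ i = 0 := by
    have h := geom_sum_mul y o
    rw [hyo, sub_self] at h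
    exact (mul_eq_zero.1 h).resolve_right (sub_ne_zero.2 hne)
  have := congrArg (red M) hsum
  simp only [hy, map_sum, map_zero, map_pow, hr, one_pow, Finset.sum_const, Finset.card_range,
    nsmul_eq_mul, mul_one] at this
  exact ho ((red_natCast_eq_zero_iff hM o).1 this)

theorem red_pow_eq (z : localRing M) (hz : z ^ (p ^ a * o) = 1) {k : ℕ} (hk : k ≡ 1 [MOD o]) :
    red M (z ^ k) = red M z := by
  have h1 : red M z ^ o = 1 := by
    rw [← map_pow]
    refine red_eq_one_of_pow_eq_one hM (k := a) ?_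
    rw [← pow_mul, mul_comm o, hz]
  rw [map_pow, pow_eq_pow_of_modEq hk h1, pow_one]

end Roots

variable {G : Type u} [Group G] [Fintype G]

/-- A Galois conjugate of a character is congruent to it. -/
theorem char_pow_sub_mem {M : Ideal AlgInt} [M.IsPrime] (hM : Cfsg.IsPModular p M) (ho : ¬ p ∣ o)
    (hn : Nat.card G ∣ p ^ a * o) {χ : G → ℂ} (hχ : Cfsg.IsCharacter G χ) {k : ℕ}
    (hk : k ≡ 1 [MOD o]) (g : G) : Cfsg.MemLocalIdeal M (χ (g ^ k) - χ g) := by
  obtain ⟨n, ρ, rfl⟩ := hχ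
  obtain ⟨μ, hμ, hj, -⟩ := exists_eigenvalues ρ g
  have h1 := hj 1
  rw [pow_one] at h1
  rw [hj k, h1, ← Finset.sum_sub_distrib]
  refine memLocalIdeal_sum _ fun t _ => ?_
  have hint : IsIntegral ℤ (μ t) := IsIntegral.of_pow (orderOf_pos g) (hμ t ▸ isIntegral_one)
  let z : localRing M := ⟨μ t, memLocalRing_of_isIntegral hint⟩
  have hz : z ^ (p ^ a * o) = 1 := by
    obtain ⟨c, hc⟩ := (orderOf_dvd_natCard g).trans hn
    rw [hc, pow_mul, show z ^ orderOf g = 1 from Subtype.ext (by simpa [z] using hμ t), one_pow]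
  simpa [z] using red_eq_red_iff.1 (red_pow_eq hM ho z hz hk)

/-- A fixed character has determinant of exponent `o`. -/
theorem detExp_of_ratFixed [hp : Fact p.Prime] (hodd : p ≠ 2) (ho : ¬ p ∣ o)
    (hn : Nat.card G ∣ p ^ a * o) {χ : G → ℂ} (hχ : Cfsg.IsCharacter G χ)
    (hfix : RatFixed p a o χ) : BlocksCharsC.DetExp o χ := by
  obtain ⟨k, hk2, hk1⟩ := Nat.chineseRemainder (coprime_of_not_dvd (a := a) hp.out ho) 2 1
  have hcop : Nat.Coprime k (p ^ a * o) := by
    refine Nat.Coprime.mul_right ?_ ?_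
    · rw [Nat.Coprime, hk2.gcd_eq]
      exact Nat.Coprime.pow_right a
        ((Nat.coprime_primes Nat.prime_two hp.out).2 (Ne.symm hodd))
    · rw [Nat.Coprime, hk1.gcd_eq, Nat.gcd_one_left]
  obtain ⟨n, ρ, rfl⟩ := hχ
  refine ⟨n, ρ, rfl, fun g => ?_⟩
  haveI : NeZero (Nat.card G) := ⟨Nat.card_pos.ne'⟩
  obtain ⟨σ, hσ⟩ := GaloisConj.exists_ringEquiv_pow (Nat.card G) k (hcop.coprime_dvd_right hn)
  obtain ⟨e⟩ := equiv_of_char_eq ρ (GaloisConj.conjRep σ ρ) (funext fun x => by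
    rw [GaloisConj.character_conjRep, GaloisConj.map_character_eq_pow hσ ⟨n, ρ, rfl⟩]
    exact (hfix k hcop hk1 x).symm)
  have hdet := BlocksCharsC.det_eq_of_equiv e g
  have hc : LinearMap.det (GaloisConj.conjRep σ ρ g) = σ (LinearMap.det (ρ g)) := by
    rw [show GaloisConj.conjRep σ ρ g = Matrix.toLin' ((LinearMap.toMatrix' (ρ g)).map σ) from rfl,
      LinearMap.det_toLin', ← LinearMap.det_toMatrix', σ.map_det]
    rfl
  set z := LinearMap.det (ρ g) with hz
  have hzG : z ^ Nat.card G = 1 := by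
    rw [hz, ← map_pow, ← map_pow, pow_card_eq_one', map_one, map_one]
  rw [hc, hσ z hzG] at hdet
  have hzn : z ^ (p ^ a * o) = 1 := by
    obtain ⟨c, hc⟩ := hn
    rw [hc, pow_mul, hzG, one_pow]
  have h2 : (z ^ o) ^ k = (z ^ o) ^ 2 :=
    pow_eq_pow_of_modEq hk2 (by rw [← pow_mul, mul_comm o, hzn])
  rw [← pow_mul, mul_comm o k, pow_mul, hdet, sq] at h2
  have hz0 : z ≠ 0 := fun h => by
    rw [h, zero_pow Nat.card_pos.ne'] at hzG
    exact zero_ne_one hzG
  exact mul_left_cancel₀ (pow_ne_zero o hz0) (h2.symm.trans (mul_one _).symm)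

/-- Values in a field of roots of unity of order prime to `p` give fixedness. -/
theorem ratFixed_of_mem_adjoin [hp : Fact p.Prime] (ho : ¬ p ∣ o) (hn : Nat.card G ∣ p ^ a * o)
    {χ : G → ℂ} (hχ : Cfsg.IsCharacter G χ) {m : ℕ} (hm : ¬ p ∣ m)
    (hrat : ∀ g, χ g ∈ IntermediateField.adjoin ℚ
      ({Complex.exp (2 * Real.pi * Complex.I / m)} : Set ℂ)) :
    RatFixed p a o χ := by
  intro k hk hko g
  have hom : ¬ p ∣ o * m := fun h => (hp.out.dvd_mul.1 h).elim ho hm
  have hcp := coprime_of_not_dvd (a := a) hp.out hom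
  obtain ⟨k', hka, hk1⟩ := Nat.chineseRemainder hcp k 1
  have hcop : Nat.Coprime k' (p ^ a * (o * m)) := by
    refine Nat.Coprime.mul_right ?_ ?_
    · rw [Nat.Coprime, hka.gcd_eq]
      exact hk.coprime_mul_right_right
    · rw [Nat.Coprime, hk1.gcd_eq, Nat.gcd_one_left]
  have hm0 : 0 < m := pos_of_not_dvd hm
  haveI : NeZero (p ^ a * (o * m)) :=
    ⟨(Nat.mul_pos (pow_pos hp.out.pos a) (pos_of_not_dvd hom)).ne'⟩
  obtain ⟨σ, hσ⟩ := GaloisConj.exists_ringEquiv_pow (p ^ a * (o * m)) k' hcop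
  have hkk : k' ≡ k [MOD p ^ a * o] :=
    (Nat.modEq_and_modEq_iff_modEq_mul (coprime_of_not_dvd hp.out ho)).1
      ⟨hka, hk1.of_mul_right m |>.trans hko.symm⟩
  have hfix : σ (χ g) = χ g := by
    refine PRational.fix_adjoin σ ?_ (hrat g)
    rintro x rfl
    set ζ := Complex.exp (2 * Real.pi * Complex.I / m) with hζ
    have hζm : ζ ^ m = 1 := (Complex.isPrimitiveRoot_exp m hm0.ne').pow_eq_one
    rw [hσ ζ (by rw [← mul_assoc, mul_comm _ m, pow_mul, hζm, one_pow]),
      pow_eq_pow_of_modEq (hk1.of_mul_left o) hζm, pow_one]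
  obtain ⟨c, hc⟩ := hn
  rw [GaloisConj.map_character_eq_pow (k := k') (fun w hw => hσ w (by
    rw [← mul_assoc, hc, mul_assoc, pow_mul, hw, one_pow])) hχ g] at hfix
  rwa [pow_eq_pow_of_modEq hkk (by rw [hc, pow_mul, pow_card_eq_one', one_pow])] at hfix

/-- Fixedness gives values in the field of `o`-th roots of unity. -/
theorem mem_adjoin_of_ratFixed [hp : Fact p.Prime] (ho : ¬ p ∣ o) (hn : Nat.card G ∣ p ^ a * o)
    {χ : G → ℂ} (hχ : Cfsg.IsCharacter G χ) (hfix : RatFixed p a o χ) (g : G) :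
    χ g ∈ IntermediateField.adjoin ℚ ({Complex.exp (2 * Real.pi * Complex.I / o)} : Set ℂ) := by
  classical
  set K := IntermediateField.adjoin ℚ ({Complex.exp (2 * Real.pi * Complex.I / o)} : Set ℂ)
  haveI : NeZero o := ⟨(pos_of_not_dvd ho).ne'⟩
  have hroot : ∀ b : ℂ, b ^ o = 1 → b ∈ K := fun b hb => by
    obtain ⟨i, -, rfl⟩ := (Complex.isPrimitiveRoot_exp o (NeZero.ne o)).eq_pow_of_pow_eq_one hb
    exact pow_mem (IntermediateField.subset_adjoin ℚ _ (Set.mem_singleton _)) i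
  obtain ⟨n, ρ, rfl⟩ := hχ
  obtain ⟨μ, hμ, hj, -⟩ := exists_eigenvalues ρ g
  have hμn : ∀ i, μ i ^ (p ^ a * o) = 1 := fun i => by
    obtain ⟨c, hc⟩ := (orderOf_dvd_natCard g).trans hn
    rw [hc, pow_mul, hμ i, one_pow]
  rcases Nat.eq_zero_or_pos a with rfl | ha
  · have h1 := hj 1
    rw [pow_one] at h1
    rw [h1]
    exact sum_mem fun i _ => pow_mem (hroot _ (by simpa using hμn i)) 1
  obtain ⟨b, rfl⟩ := Nat.exists_eq_add_of_le' ha
  have hcp := coprime_of_not_dvd (a := b + 1) hp.out ho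
  obtain ⟨e₁, he₁, he₁'⟩ := Nat.chineseRemainder hcp 1 0
  obtain ⟨e₂, he₂, he₂'⟩ := Nat.chineseRemainder hcp 0 1
  let S := (Finset.range (p ^ (b + 1))).filter fun j => ¬ p ∣ j
  have hS : (S.card : ℂ) ≠ 0 := Nat.cast_ne_zero.2 (Finset.card_ne_zero.2
    ⟨1, Finset.mem_filter.2 ⟨Finset.mem_range.2 (Nat.one_lt_pow (by omega) hp.out.one_lt),
      hp.out.not_dvd_one⟩⟩)
  have hkey : ∀ i, ∀ j : ℕ, ∀ k : ℕ, k ≡ j [MOD p ^ (b + 1)] → k ≡ 1 [MOD o] →
      μ i ^ k = μ i ^ e₂ * (μ i ^ e₁) ^ j := by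
    intro i j k hk hk'
    rw [← pow_mul, ← pow_add]
    refine pow_eq_pow_of_modEq ((Nat.modEq_and_modEq_iff_modEq_mul hcp).1 ⟨?_, ?_⟩) (hμn i)
    · have := he₂.add (he₁.mul_right j)
      simp only [zero_add, one_mul] at this
      exact hk.trans this.symm
    · have := he₂'.add (he₁'.mul_right j)
      simp only [zero_mul, add_zero] at this
      exact hk'.trans this.symm
  have hsum : (S.card : ℂ) * ρ.character g =
      ∑ i, μ i ^ e₂ * ∑ j ∈ S, (μ i ^ e₁) ^ j := by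
    simp_rw [Finset.mul_sum]
    rw [Finset.sum_comm, ← nsmul_eq_mul, ← Finset.sum_const]
    refine Finset.sum_congr rfl fun j hjS => ?_
    obtain ⟨k, hk, hk'⟩ := Nat.chineseRemainder hcp j 1
    have hcop : Nat.Coprime k (p ^ (b + 1) * o) := by
      refine Nat.Coprime.mul_right ?_ ?_
      · rw [Nat.Coprime, hk.gcd_eq]
        exact Nat.Coprime.pow_right _
          ((hp.out.coprime_iff_not_dvd.2 (Finset.mem_filter.1 hjS).2).symm)
      · rw [Nat.Coprime, hk'.gcd_eq, Nat.gcd_one_left]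
    rw [← hfix k hcop hk' g, hj k]
    exact Finset.sum_congr rfl fun i _ => hkey i j k hk hk'
  rw [← mul_div_cancel_left₀ (ρ.character g) hS, hsum]
  refine div_mem (sum_mem fun i _ => mul_mem (hroot _ ?_) ?_) (natCast_mem K _)
  · rw [← pow_mul]
    obtain ⟨c, hc⟩ := Nat.modEq_zero_iff_dvd.1 he₂
    rw [hc, mul_assoc, mul_comm c o, ← mul_assoc, pow_mul, hμn i, one_pow]
  · rw [PRational.sum_pow_coprime p b hp.out (by
      rw [← pow_mul]
      obtain ⟨c, hc⟩ := Nat.modEq_zero_iff_dvd.1 he₁'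
      rw [hc, mul_comm, ← mul_assoc, pow_mul, hμn i, one_pow])]
    refine sub_mem ?_ ?_ <;> split_ifs
    exacts [pow_mem (natCast_mem K _) _, zero_mem _, pow_mem (natCast_mem K _) _, zero_mem _]

end CfsgLib.PRationalExtension
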