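import Cfsg.Agent.PRationalExtension.Existence
import Cfsg.Agent.BlocksCharsC.RegularSupport

/-!
# A `p`-rational extension in the principal block
-/

set_option autoImplicit false
set_option linter.unusedSectionVars false
set_option linter.style.haveILetI false

namespace CfsgLib.PRationalExtension

open Cfsg CfsgLib.Blocks CfsgLib.Characters CfsgLib.CharactersDeep

universe u

variable {G : Type u} [Group G] [Finite G] {N : Subgroup G} [hN : N.Normal] {p o : ℕ}
  [hp : Fact p.Prime] {θ : IrrCharacter N} {M : Ideal AlgInt} [M.IsPrime] (Q : Sylow p N)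

/-- `N` times the centralizer of a Sylow subgroup of `N`. -/
abbrev cov : Subgroup G :=
  N ⊔ Subgroup.centralizer (((Q : Subgroup N).map N.subtype : Subgroup G) : Set G)

theorem le_cov : N ≤ cov Q := le_sup_left

/-- The Sylow subgroup read inside `cov Q`. -/
noncomputable def sylowIn : Sylow p (N.subgroupOf (cov Q)) :=
  Q.mapSurjective (f := (Subgroup.subgroupOfEquivOfLe (le_cov Q)).symm.toMonoidHom)
    (Subgroup.subgroupOfEquivOfLe (le_cov Q)).symm.surjective

theorem cov_normal : (cov Q).Normal := by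
  set P : Subgroup G := (Q : Subgroup N).map N.subtype
  refine Subgroup.normalizer_eq_top_iff.1 (eq_top_iff.2 ?_)
  rw [← Sylow.normalizer_sup_eq_top Q]
  refine sup_le (fun g hg => ?_) ((le_cov Q).trans Subgroup.le_normalizer)
  refine Subgroup.mem_normalizer_iff.2 fun x => ?_
  have key : ∀ g ∈ Subgroup.normalizer (P : Set G), ∀ x ∈ cov Q, g * x * g⁻¹ ∈ cov Q := by
    intro g hg x hx
    obtain ⟨n, hn, y, hy, rfl⟩ := Subgroup.mem_sup_of_normal_left.1 hx
    rw [show g * (n * y) * g⁻¹ = g * n * g⁻¹ * (g * y * g⁻¹) by group]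
    refine Subgroup.mul_mem_sup (hN.conj_mem n hn g) (Subgroup.mem_centralizer_iff.2 fun q hq => ?_)
    have h1 : g⁻¹ * q * g ∈ P := by
      have := (Subgroup.mem_normalizer_iff.1 (inv_mem hg) q).1 hq
      simpa using this
    have h2 := Subgroup.mem_centralizer_iff.1 hy _ h1
    calc q * (g * y * g⁻¹) = g * ((g⁻¹ * q * g) * y) * g⁻¹ := by group
      _ = g * (y * (g⁻¹ * q * g)) * g⁻¹ := by rw [h2]
      _ = _ := by group
  refine ⟨key g hg x, fun h => ?_⟩
  have := key g⁻¹ (inv_mem hg) _ h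
  simpa [mul_assoc] using this

theorem cov_covers : N.subgroupOf (cov Q) ⊔ Subgroup.centralizer
    (((sylowIn Q : Subgroup (N.subgroupOf (cov Q))).map (N.subgroupOf (cov Q)).subtype :
      Subgroup (cov Q)) : Set (cov Q)) = ⊤ := by
  refine eq_top_iff.2 fun x _ => ?_
  obtain ⟨n, hn, y, hy, hny⟩ := Subgroup.mem_sup_of_normal_left.1 x.2
  rw [show x = (⟨n, le_cov Q hn⟩ : cov Q) * ⟨y, Subgroup.mem_sup_right hy⟩ from
    Subtype.ext hny.symm]
  refine Subgroup.mul_mem_sup (Subgroup.mem_subgroupOf.2 hn)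
    (Subgroup.mem_centralizer_iff.2 ?_)
  rintro _ ⟨_, ⟨q, hq, rfl⟩, rfl⟩
  exact Subtype.ext (Subgroup.mem_centralizer_iff.1 hy (q : G) ⟨q, hq, rfl⟩)

variable (hM : Cfsg.IsPModular p M) (ho : ¬ p ∣ o) (hdet : BlocksCharsC.DetExp o (θ : N → ℂ))
  (hinv : ∀ (g : G) (n : N),
    (θ : N → ℂ) ⟨g * n * g⁻¹, hN.conj_mem n n.2 g⟩ = (θ : N → ℂ) n)
  (hd : ¬ p ∣ Cfsg.charDegree (θ : N → ℂ)) (hθ : θ ∈ Cfsg.principalBlock M N)
  {a₀ : ℕ} (hidx : (cov Q).index = p ^ a₀)
include hM ho hdet hinv hd hθ hidx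

/-- The character extends to the group. -/
theorem exists_extension :
    ∃ χ : IrrCharacter G, ∀ n : N, (χ : G → ℂ) n = (θ : N → ℂ) n := by
  obtain ⟨χ, hχ, h⟩ := ExtensionCriteria.extends_of_sylow N θ.2 hinv fun r hr => by
    by_cases hrp : r = p
    · exact hrp ▸ exists_sylow_extension ho hdet hinv hd
    haveI := Fintype.ofFinite N
    haveI := Fintype.ofFinite (N.subgroupOf (cov Q))
    let e : N.subgroupOf (cov Q) ≃* N := Subgroup.subgroupOfEquivOfLe (le_cov Q)
    let θ' : IrrCharacter (N.subgroupOf (cov Q)) := BlockPairs.irrComp e θ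
    obtain ⟨d, ρ, hρi, hρ⟩ := θ'.2
    haveI := hρi
    obtain ⟨χ, hχ⟩ := exists_extension_cov (θ := θ') hM ρ (sylowIn Q) (cov_covers Q) ho
      (hdet.comp e.toMonoidHom) (fun g n => hinv (g : G) (e n))
      (by simpa [θ', Cfsg.charDegree, BlockPairs.irrComp_apply] using hd) (principal_comp e hθ) hρ
    refine ⟨cov Q, le_cov Q, χ, fun h => hrp ?_, isCharacter_of_isIrr χ.2,
      fun n => hχ (e.symm n)⟩
    rw [hidx] at h
    exact (Nat.prime_dvd_prime_iff_eq hr hp.out).1 (hr.dvd_of_dvd_pow h)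
  exact ⟨⟨χ, hχ⟩, h⟩

/-- A Galois fixed extension in the principal block exists. -/
theorem exists_fixed_extension {a : ℕ} (hcard : Nat.card G ∣ p ^ a * o)
    (hfix : RatFixed p a o (θ : N → ℂ)) :
    ∃ χ : IrrCharacter G, χ ∈ Cfsg.principalBlock M G ∧ RatFixed p a o (χ : G → ℂ) ∧
      ∀ n : N, (χ : G → ℂ) n = (θ : N → ℂ) n := by
  classical
  haveI hLn : (cov Q).Normal := cov_normal Q
  haveI := Fintype.ofFinite G
  haveI := Fintype.ofFinite N
  haveI := Fintype.ofFinite (cov Q)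
  haveI := Fintype.ofFinite (N.subgroupOf (cov Q))
  let e : N.subgroupOf (cov Q) ≃* N := Subgroup.subgroupOfEquivOfLe (le_cov Q)
  let θ' : IrrCharacter (N.subgroupOf (cov Q)) := BlockPairs.irrComp e θ
  have hd' : ¬ p ∣ Cfsg.charDegree (θ' : N.subgroupOf (cov Q) → ℂ) := by
    simpa [θ', Cfsg.charDegree, BlockPairs.irrComp_apply] using hd
  have hθ' : θ' ∈ Cfsg.principalBlock M (N.subgroupOf (cov Q)) := principal_comp e hθ
  have hdet' : BlocksCharsC.DetExp o (θ' : N.subgroupOf (cov Q) → ℂ) := hdet.comp e.toMonoidHom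
  have hcardL : Nat.card (cov Q) ∣ p ^ a * o := (Subgroup.card_subgroup_dvd_card _).trans hcard
  obtain ⟨ψ, hψ⟩ := exists_extension Q hM ho hdet hinv hd hθ hidx
  obtain ⟨d, R, -, hR⟩ := ψ.2
  let σ : Representation ℂ (cov Q) (Fin d → ℂ) := R.comp (cov Q).subtype
  let ρ : Representation ℂ (N.subgroupOf (cov Q)) (Fin d → ℂ) :=
    σ.comp (N.subgroupOf (cov Q)).subtype
  have hρ : ρ.character = (θ' : N.subgroupOf (cov Q) → ℂ) := funext fun x => by
    show LinearMap.trace ℂ _ (R ((x : cov Q) : G)) = (θ : N → ℂ) (e x)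
    rw [← hψ (e x), ← hR]
    rfl
  haveI : ρ.IsIrreducible := by
    rw [isIrreducible_iff_classInner, hρ, classInner_isIrr_self θ'.2]
  let ψL : IrrCharacter (cov Q) := ⟨σ.character, d, σ,
    BlocksCharsC.isIrreducible_of_restrict (N.subgroupOf (cov Q)) (ρ := ρ) σ fun _ => rfl, rfl⟩
  obtain ⟨η, hη, hηn, hηdet⟩ := exists_canonical_normalized (ψ := ψL) hM (sylowIn Q) (cov_covers Q)
    ho hcardL hd' hθ' hdet' fun x => congrFun hρ x
  have huniq := fun (η' : IrrCharacter (cov Q))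
      (h1 : ExtensionBlocks.Extends (N.subgroupOf (cov Q)) θ' η') (h2 : Normalized M h1)
      (h3 : BlocksCharsC.DetExp o (η' : cov Q → ℂ)) =>
    normalized_unique hM (sylowIn Q) (cov_covers Q) ho hcardL hd' hηn hηdet h2 h3
  have hηinv : ∀ g : G, OddOrderChar.conjBy (cov Q) (η : cov Q → ℂ) g = η := by
    intro g
    let c : cov Q ≃* cov Q := MulAut.conjNormal g
    have hc : ∀ x, c x ∈ N.subgroupOf (cov Q) ↔ x ∈ N.subgroupOf (cov Q) := fun x => by
      simp only [Subgroup.mem_subgroupOf, c, MulAut.conjNormal_apply]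
      exact ⟨fun h => by simpa [mul_assoc] using hN.conj_mem _ h g⁻¹,
        fun h => hN.conj_mem _ h g⟩
    have hext : ExtensionBlocks.Extends (N.subgroupOf (cov Q)) θ' (BlockPairs.irrComp c η) := by
      intro x
      rw [BlockPairs.irrComp_apply]
      exact (hη ⟨c x, (hc x).2 x.2⟩).trans (hinv g (e x))
    have := huniq _ hext (normalized_comp c hc hηn hext fun _ => rfl) (hηdet.comp c.toMonoidHom)
    exact congrArg Subtype.val this
  have hηfix : ∀ k : ℕ, Nat.Coprime k (p ^ a * o) → k ≡ 1 [MOD o] → ∀ x : cov Q,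
      (η : cov Q → ℂ) (x ^ k) = (η : cov Q → ℂ) x := by
    intro k hk hk1
    have hkL : Nat.Coprime k (Nat.card (cov Q)) := hk.coprime_dvd_right hcardL
    have hext : ExtensionBlocks.Extends (N.subgroupOf (cov Q)) θ'
        (BlocksCharsC.powIrr k hkL η) := fun x => by
      show (η : cov Q → ℂ) ((x : cov Q) ^ k) = _
      rw [← SubgroupClass.coe_pow, hη (x ^ k)]
      show (θ : N → ℂ) (e (x ^ k)) = (θ : N → ℂ) (e x)
      rw [map_pow, hfix k hk hk1]
    have := huniq _ hext (normalized_of_congr hM hd' hηn hext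
      fun x => char_pow_sub_mem hM ho hcardL (isCharacter_of_isIrr η.2) hk1 x) (hηdet.pow hkL)
    exact fun x => congrFun (congrArg Subtype.val this) x
  have hdη : ¬ p ∣ Cfsg.charDegree (η : cov Q → ℂ) := by
    have h1 : (η : cov Q → ℂ) 1 = (θ' : N.subgroupOf (cov Q) → ℂ) 1 := hη 1
    rw [Cfsg.charDegree, h1]
    exact hd'
  obtain ⟨χ, hχ, hχdet, hχres, hχuniq⟩ := BlocksCharsC.exists_canonical (p := p) (o := o)
    ((Nat.coprime_comm).1 (hp.out.coprime_iff_not_dvd.2 ho)) (cov Q)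
    (IsPGroup.of_card (n := a₀) (by rw [← Subgroup.index, hidx])) η.2 hηdet hηinv hdη
  refine ⟨⟨χ, hχ⟩, ?_, fun k hk hk1 g => ?_, fun n => ?_⟩
  · obtain ⟨ξ, hξ, hξv⟩ := ExtensionBlocks.exists_restrict_mem_principalBlock hηn
      (MonoidHom.id (cov Q)) Function.injective_id (fun x _ => ⟨x, rfl⟩)
    refine BlocksCharsC.mem_principalBlock_of_restrict hM (cov Q) (fun g hg => ?_) hξ (e := 1)
      fun l => by rw [one_mul, hξv]; exact hχres l
    rw [← QuotientGroup.eq_one_iff, ← orderOf_eq_one_iff]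
    have h1 : orderOf (g : G ⧸ cov Q) ∣ p ^ a₀ := by
      rw [← hidx]; exact orderOf_dvd_natCard _
    have h2 : orderOf (g : G ⧸ cov Q) ∣ orderOf g :=
      orderOf_map_dvd (QuotientGroup.mk' (cov Q)) g
    obtain ⟨i, -, hi⟩ := (Nat.dvd_prime_pow hp.out).1 h1
    rw [hi] at h2 ⊢
    rcases Nat.eq_zero_or_pos i with rfl | hi0
    · rw [pow_zero]
    · exact absurd ((dvd_pow_self p hi0.ne').trans h2) hg
  · exact congrFun (hχuniq _ (hχdet.pow (hk.coprime_dvd_right hcard)) fun l => by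
      show χ (((l : cov Q) : G) ^ k) = _
      rw [← SubgroupClass.coe_pow, hχres]
      exact hηfix k hk hk1 l) g
  · have h1 := hχres (e.symm n : cov Q)
    exact h1.trans ((hη (e.symm n)).trans (congrArg (θ : N → ℂ) (e.apply_symm_apply n)))

end CfsgLib.PRationalExtension
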