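import Cfsg.Agent.PRationalExtension.Congruence
import Cfsg.Agent.ExtensionBlocks.Basic
import Cfsg.Agent.Blocks.Height

/-!
# The canonical normalized extension when `G = N C(Q)`
-/

set_option autoImplicit false
set_option linter.unusedSectionVars false
set_option linter.style.haveILetI false

namespace CfsgLib.PRationalExtension

open Cfsg CfsgLib.Blocks CfsgLib.Characters CfsgLib.ExtensionBlocks

universe u

variable {G : Type u} [Group G] [Fintype G] {N : Subgroup G} [N.Normal] [Fintype N]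
  {θ : IrrCharacter N} {χ χ' : IrrCharacter G} {M : Ideal AlgInt} [M.IsPrime] {p a o : ℕ}
  [Fact p.Prime]

/-- An extension through which the elements commuting with `N` act as through the principal block. -/
def Normalized (M : Ideal AlgInt) [M.IsPrime] (hχ : Extends N θ χ) : Prop :=
  ∀ b : centN N, scalBar hχ M b = (aug (b : MonoidAlgebra ℤ G) : Res M)

theorem normalized_of_congr (hM : Cfsg.IsPModular p M)
    (hd : ¬ p ∣ Cfsg.charDegree (θ : N → ℂ)) {hχ : Extends N θ χ} (hn : Normalized M hχ)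
    (hχ' : Extends N θ χ')
    (h : ∀ g, Cfsg.MemLocalIdeal M ((χ' : G → ℂ) g - (χ : G → ℂ) g)) : Normalized M hχ' := by
  intro b
  rw [← hn b]
  refine red_eq_red_iff.2 ?_
  show Cfsg.MemLocalIdeal M (ev (χ' : G → ℂ) b / (χ' : G → ℂ) 1 - ev (χ : G → ℂ) b / (χ : G → ℂ) 1)
  rw [show (χ' : G → ℂ) 1 = (θ : N → ℂ) 1 from hχ' 1, show (χ : G → ℂ) 1 = (θ : N → ℂ) 1 from hχ 1,
    ← sub_div, div_eq_mul_inv]
  refine memLocalIdeal_mul_right ?_ ?_
  · rw [ev, ev, ← Finset.sum_sub_distrib]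
    refine memLocalIdeal_sum _ fun x _ => ?_
    rw [← mul_sub]
    exact memLocalIdeal_mul_left (memLocalRing_of_isIntegral (isIntegral_algebraMap (R := ℤ)
      (x := (b : MonoidAlgebra ℤ G).coeff x))) (h x)
  · rw [← charDegree_cast θ]
    exact memLocalRing_natCast_inv hM hd

/-- Normalized extensions stay normalized under an automorphism preserving `N`. -/
theorem normalized_comp (e : G ≃* G) (he : ∀ x, e x ∈ N ↔ x ∈ N) {hχ : Extends N θ χ}
    (hn : Normalized M hχ) (hχ' : Extends N θ χ')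
    (h : ∀ x, (χ' : G → ℂ) x = (χ : G → ℂ) (e x)) : Normalized M hχ' := by
  intro b
  let b' : MonoidAlgebra ℤ G := ofFun fun x => (b : MonoidAlgebra ℤ G).coeff (e.symm x)
  have hb' : b' ∈ centN N := mem_centN_iff.2 fun n hn' x => by
    simp only [b', coeff_ofFun, map_mul, map_inv]
    exact mem_centN_iff.1 b.2 _ ((he _).1 (by simpa using hn')) _
  have haug : aug b' = aug (b : MonoidAlgebra ℤ G) :=
    Fintype.sum_equiv e.symm.toEquiv _ _ fun x => by simp [b']
  have hscal : scal hχ' b = scal hχ ⟨b', hb'⟩ := by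
    show ev (χ' : G → ℂ) b / (χ' : G → ℂ) 1 = ev (χ : G → ℂ) b' / (χ : G → ℂ) 1
    rw [h 1, map_one]
    congr 1
    exact Fintype.sum_equiv e.toEquiv _ _ fun x => by simp [b', h x]
  have := (scalBar_eq_iff hχ ⟨b', hb'⟩).1 (hn _)
  rw [← hscal] at this
  simp only [haug] at this
  exact (scalBar_eq_iff hχ' b).2 this

variable (hM : Cfsg.IsPModular p M) (Q : Sylow p N)
  (hcov : N ⊔ Subgroup.centralizer (((Q : Subgroup N).map N.subtype : Subgroup G) : Set G) = ⊤)
include hM hcov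

/-- The twist between two normalized extensions is trivial modulo `M`. -/
theorem twist_congr_one {hχ : Extends N θ χ} (hn : Normalized M hχ) {hχ' : Extends N θ χ'}
    (hn' : Normalized M hχ') {f : G →* ℂˣ} (hfN : ∀ x : N, f x = 1)
    (h : ∀ g, (χ' : G → ℂ) g = (f g : ℂ) * (χ : G → ℂ) g) (g : G) :
    ∃ hz : (f g : ℂ) ∈ localRing M, red M ⟨_, hz⟩ = 1 := by
  obtain ⟨b, hb, hb0⟩ := exists_witness hM Q hcov g
  have hint : IsIntegral ℤ (f g : ℂ) := IsIntegral.of_pow (R := ℤ) Nat.card_pos (by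
    rw [← Units.val_pow_eq_pow_val, ← map_pow, pow_card_eq_one', map_one]
    exact isIntegral_one)
  refine ⟨memLocalRing_of_isIntegral hint, ?_⟩
  have hscal : scal hχ' b = (f g : ℂ) * scal hχ b := by
    show ev (χ' : G → ℂ) b / (χ' : G → ℂ) 1 = _ * (ev (χ : G → ℂ) b / (χ : G → ℂ) 1)
    rw [h 1, map_one, Units.val_one, one_mul, ← mul_div_assoc, ev, ev, Finset.mul_sum]
    congr 1
    refine Finset.sum_congr rfl fun x _ => ?_
    by_cases hx : (b : MonoidAlgebra ℤ G).coeff x = 0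
    · simp [hx]
    · have h1 : g⁻¹ * x ∈ N := QuotientGroup.eq.1 (hb x hx).symm
      have h2 := hfN ⟨_, h1⟩
      rw [map_mul, map_inv, inv_mul_eq_one] at h2
      rw [h x, ← h2]
      ring
  have h2 : scalBar hχ' M b = red M ⟨_, memLocalRing_of_isIntegral hint⟩ * scalBar hχ M b := by
    show red M _ = red M _ * red M _
    rw [← map_mul]
    exact congrArg (red M) (Subtype.ext hscal)
  rw [hn', hn] at h2
  exact mul_right_cancel₀ hb0 (h2.symm.trans (one_mul _).symm)

theorem twist_pow_eq_one (ho : ¬ p ∣ o) (hcard : Nat.card G ∣ p ^ a * o)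
    {hχ : Extends N θ χ} (hn : Normalized M hχ) {hχ' : Extends N θ χ'}
    (hn' : Normalized M hχ') {f : G →* ℂˣ} (hfN : ∀ x : N, f x = 1)
    (h : ∀ g, (χ' : G → ℂ) g = (f g : ℂ) * (χ : G → ℂ) g) (g : G) : f g ^ p ^ a = 1 := by
  obtain ⟨hz, hr⟩ := twist_congr_one hM Q hcov hn hn' hfN h g
  obtain ⟨c, hc⟩ := hcard
  have := pow_pow_eq_one_of_red (a := a) hM ho (z := ⟨_, hz⟩) (Subtype.ext (by
    show ((f g : ℂ)) ^ (p ^ a * o) = 1
    rw [← Units.val_pow_eq_pow_val, hc, pow_mul, ← map_pow, pow_card_eq_one', map_one, one_pow,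
      Units.val_one])) hr
  exact Units.ext (by simpa using congrArg Subtype.val this)

omit hM hcov in
theorem coprime_degree_mul (ho : ¬ p ∣ o) (hd : ¬ p ∣ Cfsg.charDegree (θ : N → ℂ)) :
    Nat.Coprime (Cfsg.charDegree (θ : N → ℂ) * o) (p ^ a) :=
  Nat.Coprime.pow_right a ((Nat.coprime_comm).1
    ((Fact.out : p.Prime).coprime_iff_not_dvd.2 fun h =>
      ((Fact.out : p.Prime).dvd_mul.1 h).elim hd ho))

/-- A normalized extension is determined by the exponent of its determinant. -/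
theorem normalized_unique (ho : ¬ p ∣ o) (hcard : Nat.card G ∣ p ^ a * o)
    (hd : ¬ p ∣ Cfsg.charDegree (θ : N → ℂ)) {hχ : Extends N θ χ} (hn : Normalized M hχ)
    (hdet : BlocksCharsC.DetExp o (χ : G → ℂ)) {hχ' : Extends N θ χ'} (hn' : Normalized M hχ')
    (hdet' : BlocksCharsC.DetExp o (χ' : G → ℂ)) : χ' = χ := by
  obtain ⟨d, σ, hσ, hσc⟩ := χ.2
  let ρ : Representation ℂ N (Fin d → ℂ) := σ.comp N.subtype
  have hρ : ρ.character = (θ : N → ℂ) := funext fun x => by rw [← hχ x, ← hσc]; rfl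
  haveI : ρ.IsIrreducible := by
    rw [isIrreducible_iff_classInner, hρ, classInner_isIrr_self θ.2]
  obtain ⟨f, τ, hf, hτ, hτc⟩ := BlocksCharsC.exists_hom_of_extensions N (ρ := ρ) (σ := σ)
    (fun _ => rfl) (isCharacter_of_isIrr χ'.2) fun x => by rw [hρ]; exact hχ' x
  have hmul : ∀ g, (χ' : G → ℂ) g = (f g : ℂ) * (χ : G → ℂ) g := fun g => by
    rw [← hτc, ← hσc, Representation.character, hτ, map_smul, smul_eq_mul]; rfl
  have hdeg : Cfsg.charDegree (θ : N → ℂ) = d := by simp [Cfsg.charDegree, ← hρ]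
  refine Subtype.ext (funext fun g => ?_)
  have h3 := hdet'.det_pow τ hτc g
  rw [hτ g, LinearMap.det_smul, mul_pow, hdet.det_pow σ hσc g, mul_one, Module.finrank_fin_fun,
    ← pow_mul, ← Units.val_pow_eq_pow_val, Units.val_eq_one, ← hdeg] at h3
  have h4 := pow_gcd_eq_one.mpr ⟨h3, twist_pow_eq_one hM Q hcov ho hcard hn hn' hf hmul g⟩
  rw [coprime_degree_mul ho hd, pow_one] at h4
  rw [hmul, h4, Units.val_one, one_mul]

/-- A normalized extension with determinant of exponent `o` exists. -/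
theorem exists_canonical_normalized (ho : ¬ p ∣ o) (hcard : Nat.card G ∣ p ^ a * o)
    (hd : ¬ p ∣ Cfsg.charDegree (θ : N → ℂ)) (hθ : θ ∈ Cfsg.principalBlock M N)
    (hdet : BlocksCharsC.DetExp o (θ : N → ℂ)) {ψ : IrrCharacter G} (hψ : Extends N θ ψ) :
    ∃ χ : IrrCharacter G, ∃ hχ : Extends N θ χ, Normalized M hχ ∧
      BlocksCharsC.DetExp o (χ : G → ℂ) := by
  obtain ⟨χ, hχ, hn⟩ := exists_normalized hM hθ Q hcov hψ
  obtain ⟨d, σ, hσ, hσc⟩ := χ.2
  let ρ : Representation ℂ N (Fin d → ℂ) := σ.comp N.subtype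
  have hρ : ρ.character = (θ : N → ℂ) := funext fun x => by rw [← hχ x, ← hσc]; rfl
  haveI : ρ.IsIrreducible := by
    rw [isIrreducible_iff_classInner, hρ, classInner_isIrr_self θ.2]
  have hdeg : Cfsg.charDegree (θ : N → ℂ) = d := by simp [Cfsg.charDegree, ← hρ]
  let δ : G →* ℂˣ := ((LinearMap.det.comp σ) ^ o).toHomUnits
  have hδv : ∀ g, (δ g : ℂ) = LinearMap.det (σ g) ^ o := fun g => by
    simp [δ, MonoidHom.coe_toHomUnits]
  have hδN : ∀ x : N, δ x = 1 := fun x => Units.ext (by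
    rw [hδv, Units.val_one]; exact hdet.det_pow ρ hρ x)
  have hδp : ∀ g, δ g ^ p ^ a = 1 := fun g => Units.ext (by
    obtain ⟨c, hc⟩ := hcard
    have hG : LinearMap.det (σ g) ^ Nat.card G = 1 := by
      rw [← map_pow, ← map_pow, pow_card_eq_one', map_one, map_one]
    rw [Units.val_pow_eq_pow_val, hδv, ← pow_mul, mul_comm, hc, pow_mul, hG, one_pow,
      Units.val_one])
  obtain ⟨e, he⟩ : ∃ e : ℕ, d * o * e ≡ 1 [MOD p ^ a] := by
    rcases Nat.eq_zero_or_pos a with rfl | ha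
    · exact ⟨0, by simp [Nat.modEq_one]⟩
    · have hlt : 1 < p ^ a := Nat.one_lt_pow ha.ne' (Fact.out : p.Prime).one_lt
      obtain ⟨e, -, he⟩ := Nat.exists_mul_mod_eq_one_of_coprime
        (hdeg ▸ coprime_degree_mul (a := a) ho hd) hlt
      exact ⟨e, by rw [Nat.ModEq, he, Nat.mod_eq_of_lt hlt]⟩
  obtain ⟨τ, hτ⟩ := BlocksCharsC.exists_twist (δ⁻¹ ^ e) σ
  have hτN : ∀ x : N, τ x = ρ x := fun x => by
    rw [hτ, MonoidHom.pow_apply, MonoidHom.inv_apply, hδN, inv_one, one_pow, Units.val_one, one_smul]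
    rfl
  let χ' : IrrCharacter G :=
    ⟨τ.character, d, τ, BlocksCharsC.isIrreducible_of_restrict N τ hτN, rfl⟩
  have hχ' : Extends N θ χ' := fun x => by
    show LinearMap.trace ℂ _ (τ x) = _
    rw [hτN, ← hρ]; rfl
  refine ⟨χ', hχ', normalized_of_congr hM hd hn hχ' fun g => ?_, d, τ, rfl, fun g => ?_⟩
  · show Cfsg.MemLocalIdeal M (τ.character g - _)
    rw [Representation.character, hτ, map_smul, smul_eq_mul, ← hσc]
    set v := ((δ⁻¹ ^ e) g : ℂ) with hv
    have hvp : v ^ p ^ a = 1 := by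
      rw [hv, ← Units.val_pow_eq_pow_val, MonoidHom.pow_apply, MonoidHom.inv_apply, ← pow_mul,
        mul_comm, pow_mul, inv_pow, hδp, inv_one, one_pow, Units.val_one]
    have hint : IsIntegral ℤ v :=
      IsIntegral.of_pow (pow_pos (Fact.out : p.Prime).pos a) (hvp ▸ isIntegral_one)
    have hred : red M ⟨v, memLocalRing_of_isIntegral hint⟩ = red M 1 := by
      rw [map_one]
      exact red_eq_one_of_pow_eq_one hM (k := a) (Subtype.ext (by simpa using hvp))
    have h1 : Cfsg.MemLocalIdeal M (v - 1) := red_eq_red_iff.1 hred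
    have h2 := memLocalIdeal_mul_right h1 (memLocalRing_char χ g)
    rw [sub_mul, one_mul, ← hσc] at h2
    exact h2
  · rw [hτ, LinearMap.det_smul, mul_pow, ← hδv, Module.finrank_fin_fun, ← pow_mul,
      ← Units.val_pow_eq_pow_val, ← Units.val_mul, Units.val_eq_one, MonoidHom.pow_apply,
      MonoidHom.inv_apply, ← pow_mul, inv_pow, inv_mul_eq_one]
    have : δ g ^ (e * (d * o)) = δ g ^ 1 := by
      rw [pow_eq_pow_iff_modEq]
      refine Nat.ModEq.of_dvd (orderOf_dvd_of_pow_eq_one (hδp g)) ?_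
      rwa [mul_comm]
    rwa [pow_one] at this

end CfsgLib.PRationalExtension
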